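import Cfsg.Agent.Lib.Lie.SuzOut.Data

/-!
A search, in parts.
-/

set_option autoImplicit false
set_option maxRecDepth 100000
set_option Elab.async false

namespace Cfsg.Agent.Lie.SuzOut

open OutTables PermTable

theorem cand0 :
    (List.range' (256 * 0) 256).all (fun i => !Nat.blt i chNL0.k ||
      srch data.S (data.el 1) (powF (data.el 1) data.K) data.leafTwo chNRest (chNL0.word i)
        [(chNL0.b, evw data.S (chNL0.word i) chNL0.b)]) = true := by
  decide +kernel

theorem cand1 :
    (List.range' (256 * 1) 256).all (fun i => !Nat.blt i chNL0.k ||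
      srch data.S (data.el 1) (powF (data.el 1) data.K) data.leafTwo chNRest (chNL0.word i)
        [(chNL0.b, evw data.S (chNL0.word i) chNL0.b)]) = true := by
  decide +kernel

theorem cand2 :
    (List.range' (256 * 2) 256).all (fun i => !Nat.blt i chNL0.k ||
      srch data.S (data.el 1) (powF (data.el 1) data.K) data.leafTwo chNRest (chNL0.word i)
        [(chNL0.b, evw data.S (chNL0.word i) chNL0.b)]) = true := by
  decide +kernel

theorem cand3 :
    (List.range' (256 * 3) 256).all (fun i => !Nat.blt i chNL0.k ||
      srch data.S (data.el 1) (powF (data.el 1) data.K) data.leafTwo chNRest (chNL0.word i)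
        [(chNL0.b, evw data.S (chNL0.word i) chNL0.b)]) = true := by
  decide +kernel

theorem cand4 :
    (List.range' (256 * 4) 256).all (fun i => !Nat.blt i chNL0.k ||
      srch data.S (data.el 1) (powF (data.el 1) data.K) data.leafTwo chNRest (chNL0.word i)
        [(chNL0.b, evw data.S (chNL0.word i) chNL0.b)]) = true := by
  decide +kernel

theorem cand5 :
    (List.range' (256 * 5) 256).all (fun i => !Nat.blt i chNL0.k ||
      srch data.S (data.el 1) (powF (data.el 1) data.K) data.leafTwo chNRest (chNL0.word i)
        [(chNL0.b, evw data.S (chNL0.word i) chNL0.b)]) = true := by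
  decide +kernel

theorem cand6 :
    (List.range' (256 * 6) 256).all (fun i => !Nat.blt i chNL0.k ||
      srch data.S (data.el 1) (powF (data.el 1) data.K) data.leafTwo chNRest (chNL0.word i)
        [(chNL0.b, evw data.S (chNL0.word i) chNL0.b)]) = true := by
  decide +kernel

end Cfsg.Agent.Lie.SuzOut
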