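import Cfsg.Agent.Lib.Lie.SuzOut.Data

/-!
Pointwise identities, strong generators and the outer permutation.
-/

set_option autoImplicit false
set_option maxRecDepth 100000
set_option Elab.async false

namespace Cfsg.Agent.Lie.SuzOut

open OutTables PermTable

theorem base_ok :
    data.baseCheck = true := by
  decide +kernel

theorem moves_ok :
    data.movesCheck = true := by
  decide +kernel

theorem point0 :
    (List.range' (512 * 0) 512).all (fun i => !Nat.blt i data.N || (data.lettersCheck i && data.pointCheck i)) = true := by
  decide +kernel

theorem point1 :
    (List.range' (512 * 1) 512).all (fun i => !Nat.blt i data.N || (data.lettersCheck i && data.pointCheck i)) = true := by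
  decide +kernel

theorem point2 :
    (List.range' (512 * 2) 512).all (fun i => !Nat.blt i data.N || (data.lettersCheck i && data.pointCheck i)) = true := by
  decide +kernel

theorem point3 :
    (List.range' (512 * 3) 512).all (fun i => !Nat.blt i data.N || (data.lettersCheck i && data.pointCheck i)) = true := by
  decide +kernel

theorem sigma0 :
    (List.range' (512 * 0) 512).all (fun i => !Nat.blt i data.N || data.sigmaCheck i) = true := by
  decide +kernel

theorem sigma1 :
    (List.range' (512 * 1) 512).all (fun i => !Nat.blt i data.N || data.sigmaCheck i) = true := by
  decide +kernel

theorem sigma2 :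
    (List.range' (512 * 2) 512).all (fun i => !Nat.blt i data.N || data.sigmaCheck i) = true := by
  decide +kernel

theorem sigma3 :
    (List.range' (512 * 3) 512).all (fun i => !Nat.blt i data.N || data.sigmaCheck i) = true := by
  decide +kernel

theorem strong0 :
    (List.range' (8 * 0) 8).all (fun i => !Nat.blt i data.ns || data.strongCheck i) = true := by
  decide +kernel

theorem strong1 :
    (List.range' (8 * 1) 8).all (fun i => !Nat.blt i data.ns || data.strongCheck i) = true := by
  decide +kernel

theorem strong2 :
    (List.range' (8 * 2) 8).all (fun i => !Nat.blt i data.ns || data.strongCheck i) = true := by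
  decide +kernel

theorem strong3 :
    (List.range' (8 * 3) 8).all (fun i => !Nat.blt i data.ns || data.strongCheck i) = true := by
  decide +kernel

theorem strong4 :
    (List.range' (8 * 4) 8).all (fun i => !Nat.blt i data.ns || data.strongCheck i) = true := by
  decide +kernel

end Cfsg.Agent.Lie.SuzOut
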