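import Cfsg.Agent.Lib.Lie.SuzOut.CheckA0
import Cfsg.Agent.Lib.Lie.SuzOut.CheckB0
import Cfsg.Agent.Lib.Lie.SuzOut.CheckB1
import Cfsg.Agent.Lib.Lie.SuzOut.CheckNorm0
import Cfsg.Agent.Lib.Lie.SuzOut.CheckCand0
import Cfsg.Agent.Lib.Lie.SuzOut.CheckOuter0
import Cfsg.Agent.Lib.Lie.SuzOut.CheckPoints
import Cfsg.Agent.Lib.Lie.SuzOut.CheckChains
import Cfsg.Agent.Lib.Spor.SuzMain

/-!
The outer automorphism group of Suz has order two, from the checked tables.
-/

set_option autoImplicit false
set_option maxRecDepth 100000

namespace Cfsg.Agent.Lie.SuzOut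

open OutTables PermTable

/-- The action on 1782 points. -/
noncomputable def act : Cfsg.Agent.Spor.SuzCert.pres.Grp →* Equiv.Perm (Fin data.N) :=
  Cfsg.Agent.Spor.SuzCert.rep.hom

theorem gens_rep : ∀ x < data.ng, ∃ g, Rep act g (data.T0 x) := fun x hx =>
  ⟨Cfsg.Agent.Spor.SuzCert.pres.gen x, fun k => by
    have h := Cfsg.Agent.Spor.SuzCert.rep.hom_gen x hx
    exact (congrArg Fin.val (DFunLike.congr_fun h k)).trans
      (Cfsg.Agent.Spor.SuzCert.rep.P.perm_val Cfsg.Agent.Spor.SuzCert.rep.valid hx k)⟩

theorem point_all : ∀ k < data.N, (data.lettersCheck k && data.pointCheck k) = true :=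
  of_chunks 512 4 (by decide +kernel) <| fun j hj => by
    interval_cases j
    · exact point0
    · exact point1
    · exact point2
    · exact point3

theorem sigma_all : ∀ k < data.N, data.sigmaCheck k = true :=
  of_chunks 512 4 (by decide +kernel) <| fun j hj => by
    interval_cases j
    · exact sigma0
    · exact sigma1
    · exact sigma2
    · exact sigma3

theorem strong_all : ∀ j < data.ns, data.strongCheck j = true :=
  of_chunks 8 5 (by decide +kernel) <| fun j hj => by
    interval_cases j
    · exact strong0
    · exact strong1
    · exact strong2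
    · exact strong3
    · exact strong4

theorem stepsA_all : ∀ i < data.opsA.length, stepOK data.A data.N data.ng data.opsA i = true :=
  of_chunks 60 5 (by decide +kernel) <| fun j hj => by
    interval_cases j
    · exact stepA0
    · exact stepA1
    · exact stepA2
    · exact stepA3
    · exact stepA4

theorem stepsB_all : ∀ i < data.opsB.length, stepOK data.B data.N 4 data.opsB i = true :=
  of_chunks 60 8 (by decide +kernel) <| fun j hj => by
    interval_cases j
    · exact stepB0
    · exact stepB1
    · exact stepB2
    · exact stepB3
    · exact stepB4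
    · exact stepB5
    · exact stepB6
    · exact stepB7

theorem norm_all : srch data.S (data.el 0) (powF (data.el 0) data.r) data.leafNorm data.chX [] [] = true :=
  srch_first (L := chXL0) (Ls := chXRest) 256 7 (by decide +kernel) <| fun j hj => by
    interval_cases j
    · exact norm0
    · exact norm1
    · exact norm2
    · exact norm3
    · exact norm4
    · exact norm5
    · exact norm6

theorem cand_all : srch data.S (data.el 1) (powF (data.el 1) data.K) data.leafTwo data.chN [] [] = true :=
  srch_first (L := chNL0) (Ls := chNRest) 256 7 (by decide +kernel) <| fun j hj => by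
    interval_cases j
    · exact cand0
    · exact cand1
    · exact cand2
    · exact cand3
    · exact cand4
    · exact cand5
    · exact cand6

theorem outer_all : srch data.S (data.el 0) (powF (data.el 0) data.c) data.leafOuter data.chX [] [] = true :=
  srch_first (L := chXL0) (Ls := chXRest) 256 7 (by decide +kernel) <| fun j hj => by
    interval_cases j
    · exact outer0
    · exact outer1
    · exact outer2
    · exact outer3
    · exact outer4
    · exact outer5
    · exact outer6

theorem size_facts : (chainSize data.chX = 448345497600 ∧ chainSize data.chN = 448345497600) ∧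
    data.p.Prime ∧ ¬ data.p ^ 2 ∣ 448345497600 :=
  ⟨⟨by decide +kernel, by decide +kernel⟩, show Nat.Prime 13 by norm_num,
    show ¬ 13 ^ 2 ∣ 448345497600 by norm_num⟩

theorem valid : Valid data act where
  inj := Cfsg.Agent.Spor.SuzCert.order.2.2
  prime := size_facts.2.1
  once := Cfsg.Agent.Spor.SuzCert.order.2.1 ▸ size_facts.2.2
  gens := gens_rep
  base := base_ok
  moves := moves_ok
  letters := fun k hk => (Bool.and_eq_true _ _ ▸ point_all k hk).1
  points := fun k hk => (Bool.and_eq_true _ _ ▸ point_all k hk).2
  stepsA := stepsA_all
  stepsB := stepsB_all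
  strong := strong_all
  chainX := chainX_ok
  chainN := chainN_ok
  sizeX := size_facts.1.1.trans Cfsg.Agent.Spor.SuzCert.order.2.1.symm
  sizeN := size_facts.1.2.trans Cfsg.Agent.Spor.SuzCert.order.2.1.symm
  searchX := norm_all

/-- The outer automorphism group has order two. -/
theorem out_card : Nat.card (Cfsg.Out Cfsg.Agent.Spor.SuzCert.pres.Grp) = 2 := by
  haveI := Cfsg.Agent.Spor.SuzCert.order.1
  exact card_two valid cand_all outer_all sigma_all

end Cfsg.Agent.Lie.SuzOut
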